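import Groth.Agent.BlowUpBasics.AffineAlgebra
import Mathlib

/-!
# Affine blow-up algebras of an ideal all of whose powers have flat quotients
-/

set_option autoImplicit false
set_option linter.style.haveILetI false

universe u

open TensorProduct

namespace Groth.BlowUpFlatPowers

variable {R : Type u} [CommRing R]

/-- A directed union of flat modules, described by stages, is flat. -/
theorem flat_of_stages {N : Type u} [AddCommGroup N] [Module R N] {M : ℕ → Type u}
    [∀ m, AddCommGroup (M m)] [∀ m, Module R (M m)] [∀ m, Module.Flat R (M m)]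
    (v : ∀ m, M m →ₗ[R] N) (t : ∀ m n, m ≤ n → (M m →ₗ[R] M n))
    (hv : ∀ m n h x, v n (t m n h x) = v m x) (hs : ∀ y, ∃ m x, v m x = y)
    (hk : ∀ m x, v m x = 0 → ∃ n h, t m n h x = 0) : Module.Flat R N := by
  refine Module.Flat.iff_lift_lsmul_comp_subtype_injective.2 fun J _ => ?_
  have hstage : ∀ z : J ⊗[R] N, ∃ m w, (v m).lTensor J w = z := by
    intro z
    induction z using TensorProduct.induction_on with
    | zero => exact ⟨0, 0, map_zero _⟩
    | tmul j y =>
      obtain ⟨m, x, rfl⟩ := hs y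
      exact ⟨m, j ⊗ₜ x, rfl⟩
    | add z₁ z₂ h₁ h₂ =>
      obtain ⟨m, w₁, rfl⟩ := h₁
      obtain ⟨n, w₂, rfl⟩ := h₂
      have hp : ∀ p q h, (v q).comp (t p q h) = v p := fun p q h => LinearMap.ext (hv p q h)
      refine ⟨max m n, (t m _ (le_max_left m n)).lTensor J w₁ + (t n _ (le_max_right m n)).lTensor J w₂, ?_⟩
      rw [map_add, ← LinearMap.lTensor_comp_apply, hp, ← LinearMap.lTensor_comp_apply, hp]
  refine (injective_iff_map_eq_zero _).2 fun z hz => ?_
  obtain ⟨m, w, rfl⟩ := hstage z
  let act : ∀ (P : Type u) [AddCommGroup P] [Module R P], J ⊗[R] P →ₗ[R] P := fun P _ _ =>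
    TensorProduct.lift ((LinearMap.lsmul R P).comp J.subtype)
  have hnat : ∀ {P Q : Type u} [AddCommGroup P] [Module R P] [AddCommGroup Q] [Module R Q]
      (φ : P →ₗ[R] Q) (z : J ⊗[R] P), act Q (φ.lTensor J z) = φ (act P z) := by
    intro P Q _ _ _ _ φ z
    induction z using TensorProduct.induction_on with
    | zero => simp
    | tmul j y => simp [act]
    | add a b ha hb => simp [map_add, ha, hb]
  obtain ⟨n, h, hn⟩ := hk m (act _ w) ((hnat (v m) w).symm.trans hz)
  have h0 : (t m n h).lTensor J w = 0 :=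
    (Module.Flat.iff_lift_lsmul_comp_subtype_injective.1 (inferInstance : Module.Flat R (M n)) ‹_›)
      (((hnat (t m n h) w).trans hn).trans (map_zero _).symm)
  have : (v n).comp (t m n h) = v m := LinearMap.ext (hv m n h)
  rw [← this, LinearMap.lTensor_comp_apply, h0, map_zero]

/-- The kernel of a surjection between flat modules is flat. -/
theorem flat_ker {N P : Type u} [AddCommGroup N] [Module R N] [AddCommGroup P] [Module R P]
    [Module.Flat R N] [Module.Flat R P] (f : N →ₗ[R] P) (hf : Function.Surjective f) :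
    Module.Flat R (LinearMap.ker f) := by
  refine Module.Flat.iff_rTensor_preserves_injective_linearMap.2 fun A B _ _ _ _ i hi => ?_
  have h1 := LinearMap.lTensor_injective_of_exact_of_flat f hf _ (LinearMap.ker f).subtype_injective
    (LinearMap.exact_subtype_ker_map f) A
  have h2 : Function.Injective (i.rTensor N ∘ₗ (LinearMap.ker f).subtype.lTensor A) :=
    (Module.Flat.rTensor_preserves_injective_linearMap i hi).comp h1
  rw [LinearMap.rTensor_comp_lTensor, ← LinearMap.lTensor_comp_rTensor, LinearMap.coe_comp] at h2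
  exact h2.of_comp

variable {A : Type u} [CommRing A] [Algebra R A] (I : Ideal A) (a : A)

local notation "L" => Localization.Away a
local notation "B" => BlowUp.affineAlgebra A I a

/-- Elements of the affine blow-up algebra are fractions `y / a ^ k` with `y ∈ I ^ k`. -/
theorem exists_mul_pow_eq (ha : a ∈ I) (q : L) (hq : q ∈ B) :
    ∃ k, ∃ y ∈ I ^ k, q * algebraMap A L a ^ k = algebraMap A L y := by
  induction hq using Algebra.adjoin_induction with
  | mem q hq =>
    obtain ⟨x, hx, rfl⟩ := hq
    exact ⟨1, x, by rwa [pow_one], by rw [pow_one, IsLocalization.mk'_spec]⟩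
  | algebraMap r => exact ⟨0, r, by simp, by simp⟩
  | add p q _ _ hp hq =>
    obtain ⟨k, y, hy, hky⟩ := hp
    obtain ⟨l, z, hz, hlz⟩ := hq
    refine ⟨k + l, y * a ^ l + a ^ k * z, Submodule.add_mem _ ?_ ?_, ?_⟩
    · rw [pow_add]; exact Ideal.mul_mem_mul hy (Ideal.pow_mem_pow ha l)
    · rw [pow_add]; exact Ideal.mul_mem_mul (Ideal.pow_mem_pow ha k) hz
    · rw [map_add, map_mul, map_mul, map_pow, map_pow, ← hky, ← hlz]; ring
  | mul p q _ _ hp hq =>
    obtain ⟨k, y, hy, hky⟩ := hp
    obtain ⟨l, z, hz, hlz⟩ := hq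
    exact ⟨k + l, y * z, pow_add I k l ▸ Ideal.mul_mem_mul hy hz,
      by rw [map_mul, ← hky, ← hlz]; ring⟩

theorem algebraMap_mul_invSelf_pow (k : ℕ) :
    algebraMap A L a ^ k * IsLocalization.Away.invSelf a ^ k = 1 := by
  rw [← mul_pow, IsLocalization.Away.mul_invSelf, one_pow]

/-- Fractions `y / a ^ k` with `y ∈ I ^ k` lie in the affine blow-up algebra. -/
theorem mul_invSelf_pow_mem (k : ℕ) : ∀ y ∈ I ^ k, algebraMap A L y * IsLocalization.Away.invSelf a ^ k ∈ B := by
  induction k with
  | zero => intro y _; rw [pow_zero, mul_one]; exact Subalgebra.algebraMap_mem _ y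
  | succ k ih =>
    intro y hy
    rw [pow_succ] at hy
    induction hy using Submodule.mul_induction_on' with
    | mem_mul_mem p hp q hq =>
      rw [map_mul, pow_succ, mul_mul_mul_comm]
      refine mul_mem (ih p hp) (Algebra.subset_adjoin ⟨q, hq, ?_⟩)
      rw [IsLocalization.eq_mk'_iff_mul_eq]
      show algebraMap A L q * IsLocalization.Away.invSelf a * algebraMap A L a = _
      rw [mul_assoc, mul_comm (IsLocalization.Away.invSelf a), IsLocalization.Away.mul_invSelf, mul_one]
    | add p _ q _ hp hq => rw [map_add, add_mul]; exact add_mem hp hq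

variable (R) in
/-- The affine blow-up algebra as an `R`-submodule. -/
noncomputable abbrev sub : Submodule R L := (Subalgebra.toSubmodule B).restrictScalars R

/-- `A_a / A[I/a]` is flat when all `A / I ^ m` are. -/
theorem flat_quotient (ha : a ∈ I) (hfl : ∀ m, Module.Flat R (A ⧸ I ^ m)) :
    Module.Flat R (L ⧸ sub R I a) := by
  let u : L := IsLocalization.Away.invSelf a
  let w : ℕ → A →ₗ[R] L ⧸ sub R I a := fun m =>
    (sub R I a).mkQ ∘ₗ (LinearMap.mulRight R (u ^ m)) ∘ₗ (IsScalarTower.toAlgHom R A L).toLinearMap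
  let v : ∀ m, (A ⧸ I ^ m) →ₗ[R] L ⧸ sub R I a := fun m =>
    Submodule.liftQ ((I ^ m).restrictScalars R) (w m) (fun y hy => by
      simp only [LinearMap.mem_ker, w, LinearMap.comp_apply, Submodule.mkQ_apply, Submodule.Quotient.mk_eq_zero]
      exact mul_invSelf_pow_mem I a m y hy) ∘ₗ
        (Submodule.Quotient.restrictScalarsEquiv R (I ^ m)).symm.toLinearMap
  have hv : ∀ m x, v m (Ideal.Quotient.mk _ x) = (sub R I a).mkQ (algebraMap A L x * u ^ m) := fun m x => rfl
  let t : ∀ m n, m ≤ n → ((A ⧸ I ^ m) →ₗ[R] A ⧸ I ^ n) := fun m n h =>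
    (Submodule.mapQ (I ^ m) (I ^ n) (LinearMap.mulLeft A (a ^ (n - m))) fun y hy => by
      rw [Submodule.mem_comap, LinearMap.mulLeft_apply, show n = (n - m) + m by omega, pow_add,
        show n - m + m - m = n - m by omega]
      exact Ideal.mul_mem_mul (Ideal.pow_mem_pow ha _) hy).restrictScalars R
  have hu : ∀ k, algebraMap A L a ^ k * u ^ k = 1 := algebraMap_mul_invSelf_pow a
  refine flat_of_stages (M := fun m => A ⧸ I ^ m) v t (fun m n h x => ?_) (fun y => ?_) (fun m x hx => ?_)
  · induction x using Quotient.inductionOn' with | h x => ?_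
    show v n (Ideal.Quotient.mk _ (a ^ (n - m) * x)) = v m (Ideal.Quotient.mk _ x)
    rw [hv, hv]
    congr 1
    obtain ⟨d, rfl⟩ := Nat.exists_eq_add_of_le h
    rw [show m + d - m = d by omega, map_mul, map_pow, pow_add]
    linear_combination (algebraMap A L x * u ^ m) * hu d
  · obtain ⟨q, rfl⟩ := Submodule.mkQ_surjective _ y
    obtain ⟨x, ⟨_, k, rfl⟩, rfl⟩ := IsLocalization.exists_mk'_eq (Submonoid.powers a) q
    refine ⟨k, Ideal.Quotient.mk _ x, ?_⟩
    rw [hv]
    congr 1
    rw [IsLocalization.eq_mk'_iff_mul_eq]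
    simp only [map_pow]
    linear_combination (algebraMap A L x) * hu k
  · induction x using Quotient.inductionOn' with | h x => ?_
    have h0 : v m (Ideal.Quotient.mk _ x) = 0 := hx
    rw [hv, Submodule.mkQ_apply, Submodule.Quotient.mk_eq_zero] at h0
    obtain ⟨k, y, hy, hky⟩ := exists_mul_pow_eq I a ha _ h0
    obtain ⟨⟨_, j, rfl⟩, hj⟩ := IsLocalization.exists_of_eq (M := Submonoid.powers a) (S := L)
      (x := a ^ k * x) (y := a ^ m * y) (by
        rw [map_mul, map_mul, map_pow, map_pow, ← hky]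
        linear_combination (-(algebraMap A L a ^ k * algebraMap A L x)) * hu m)
    refine ⟨m + (j + k), le_self_add, ?_⟩
    show Ideal.Quotient.mk _ (a ^ (m + (j + k) - m) * x) = 0
    rw [Ideal.Quotient.eq_zero_iff_mem, show m + (j + k) - m = j + k by omega, pow_add a j k, mul_assoc,
      show a ^ j * (a ^ k * x) = a ^ j * (a ^ m * y) from hj,
      show m + (j + k) = j + (m + k) by omega, pow_add, pow_add]
    exact Ideal.mul_mem_mul (Ideal.pow_mem_pow ha j) (Ideal.mul_mem_mul (Ideal.pow_mem_pow ha m) hy)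

/-- The affine blow-up algebra is flat when `A` and all `A / I ^ m` are. -/
theorem flat_affineAlgebra [Module.Flat R A] (ha : a ∈ I) (hfl : ∀ m, Module.Flat R (A ⧸ I ^ m)) :
    Module.Flat R B := by
  haveI : Module.Flat A L := IsLocalization.flat L (Submonoid.powers a)
  haveI : Module.Flat R L := Module.Flat.trans R A L
  haveI := flat_quotient I a ha hfl
  haveI := flat_ker (sub R I a).mkQ (Submodule.mkQ_surjective _)
  exact Module.Flat.of_linearEquiv
    ((LinearEquiv.ofEq (sub R I a) _ (Submodule.ker_mkQ _).symm) : B ≃ₗ[R] LinearMap.ker (sub R I a).mkQ)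

variable {R' : Type u} [CommRing R'] [Algebra R R']

/-- After base change along `R → R'` the element `a` stays regular on the affine blow-up algebra. -/
theorem tmul_mem_nonZeroDivisors (ha : a ∈ I) (hfl : ∀ m, Module.Flat R (A ⧸ I ^ m)) :
    algebraMap A (A ⊗[R] R') a ⊗ₜ[A] (1 : B) ∈ nonZeroDivisors ((A ⊗[R] R') ⊗[A] B) := by
  let e : (A ⊗[R] R') ⊗[A] B ≃ₐ[A] B ⊗[R] R' :=
    (Algebra.TensorProduct.comm A (A ⊗[R] R') B).trans
      ((Algebra.TensorProduct.cancelBaseChange R A B B R').restrictScalars A)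
  have he : e (algebraMap A (A ⊗[R] R') a ⊗ₜ[A] (1 : B)) = algebraMap A B a ⊗ₜ[R] (1 : R') := by
    simp [e, Algebra.TensorProduct.algebraMap_apply, Algebra.smul_def]
  let ψ : B ⊗[R] R' →ₐ[R] L ⊗[R] R' :=
    Algebra.TensorProduct.map ((BlowUp.affineAlgebra A I a).val.restrictScalars R) (AlgHom.id R R')
  have hψ : Function.Injective ψ := by
    haveI := flat_quotient I a ha hfl
    have h1 := LinearMap.lTensor_injective_of_exact_of_flat (sub R I a).mkQ (Submodule.mkQ_surjective _)
      (sub R I a).subtype (Submodule.subtype_injective _) (LinearMap.exact_subtype_mkQ _) R'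
    rw [LinearMap.lTensor_inj_iff_rTensor_inj] at h1
    exact h1
  have hu : IsUnit (algebraMap A L a ⊗ₜ[R] (1 : R')) :=
    (IsLocalization.Away.algebraMap_isUnit (S := L) a).map
      (Algebra.TensorProduct.includeLeftRingHom : L →+* L ⊗[R] R')
  refine mem_nonZeroDivisors_iff_right.2 fun z hz => e.injective (hψ ?_)
  rw [map_zero, map_zero]
  refine hu.mul_left_eq_zero.1 ?_
  rw [show algebraMap A L a ⊗ₜ[R] (1 : R') = ψ (algebraMap A B a ⊗ₜ[R] (1 : R')) by simp [ψ],
    ← map_mul, ← he, ← map_mul, hz, map_zero, map_zero]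

end Groth.BlowUpFlatPowers
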